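import Groth.Agent.Lib.Ref1.IsoCriterion
import Groth.Agent.Lib.Ref1.Extend
import Groth.Agent.Lib.Ref1.Frame
import Groth.Agent.Lib.TorsionFree.Reflexive
import Groth.Agent.Lib.QCoh.SupportExact
import Groth.Agent.Lib.AlgMisc.GeomRegAt
import Groth.Agent.Lib.RegUFD.Basic
import Groth.Agent.Lib.Euler.Coh
import Groth.Prelude.Def_TorSh

/-!
# Locally free modules on smooth surfaces
-/

set_option autoImplicit false
set_option backward.isDefEq.respectTransparency false
set_option linter.style.haveILetI false

universe u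

open CategoryTheory CategoryTheory.Limits AlgebraicGeometry IsLocalRing Opposite

noncomputable section

namespace GrothLib.SurfRef9

variable {X : Scheme.{u}}

theorem stalkLin_eq {M N : X.Modules} (f : M ⟶ N) (p : X) (v : M.presheaf.stalk p) :
    QCoh.stalkLin f p v = RefHull.stalkMapₗ f p v := by
  obtain ⟨U, hU, s, rfl⟩ := TopCat.Presheaf.exists_germ_eq M.presheaf v
  exact (QCoh.stalkLin_germ f hU s).trans (RefHull.stalkMapₗ_germ f p hU s).symm

variable {S : ShortComplex X.Modules} (hS : S.ShortExact)
include hS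

theorem injective_stalk (y : X) : Function.Injective (RefHull.stalkMapₗ S.f y) := fun a b hab => by
  haveI : Mono S.f := hS.mono_f
  haveI : Mono ((OX.stalk y).map S.f) := inferInstance
  exact (ModuleCat.mono_iff_injective _).1 this
    ((stalkLin_eq S.f y a).trans (hab.trans (stalkLin_eq S.f y b).symm))

theorem exact_stalk (y : X) :
    Function.Exact (RefHull.stalkMapₗ S.f y) (RefHull.stalkMapₗ S.g y) := by
  intro v
  refine ⟨fun hv => ?_, ?_⟩
  · have hex := (OX.exact_iff _).1 hS.exact y
    rw [ShortComplex.moduleCat_exact_iff] at hex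
    obtain ⟨u, hu⟩ := hex v ((stalkLin_eq S.g y v).trans hv)
    exact ⟨u, (stalkLin_eq S.f y u).symm.trans hu⟩
  · rintro ⟨u, rfl⟩
    rw [← stalkLin_eq, ← stalkLin_eq]
    exact congr($(((OX.stalk y).map_comp S.f S.g).symm.trans
      ((congrArg (OX.stalk y).map S.zero).trans ((OX.stalk y).map_zero _ _))) u)

omit hS

variable (k : Type u) [Field k] (f : X ⟶ Spec (CommRingCat.of k)) [Smooth f]

include f in
theorem normal : Pi1.IsNormalScheme X := fun x => by
  haveI : IsRegularLocalRing (X.presheaf.stalk x) :=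
    Groth.Agent.Lib.AlgMisc.GeomRegAt.isRegularLocalRing_stalk_of_mem_smoothLocus f (x := x)
      (by rw [f.smoothLocus_eq_top]; trivial)
  haveI := GrothLib.CMFree.isDomain_of_isRegularLocalRing (X.presheaf.stalk x)
  haveI : UniqueFactorizationMonoid (X.presheaf.stalk x) := RegUFD.ufd_of_isRegularLocalRing _
  exact ⟨inferInstance, inferInstance⟩

include f in
/-- On a smooth surface the kernel of a map from a finite locally free module onto a torsion-free one is finite locally
free. -/
theorem isFinLocFree_kernel [IsLocallyNoetherian X] (hdim : topologicalKrullDim X ≤ 2) {M N : X.Modules}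
    (hM : FlatMod.IsFinLocFree M) (hN : Coh.IsCoh N) (hNtf : TorSh.IsTorsionFree N) (φ : M ⟶ N) [Epi φ] :
    FlatMod.IsFinLocFree (kernel φ) := by
  have hMc := Euler.isCoh_of_isFinLocFree hM
  have hK : Coh.IsCoh (kernel φ) := QCoh.isCoh_kernel φ hMc hN
  have hrel := HomSh.hasRel_of_isCoh hK
  rw [Ref1.isFinLocFree_iff_free hrel]
  intro x
  haveI : IsRegularLocalRing (X.presheaf.stalk x) :=
    Groth.Agent.Lib.AlgMisc.GeomRegAt.isRegularLocalRing_stalk_of_mem_smoothLocus f (x := x)
      (by rw [f.smoothLocus_eq_top]; trivial)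
  haveI := GrothLib.CMFree.isDomain_of_isRegularLocalRing (X.presheaf.stalk x)
  haveI := (Ref1.isFinLocFree_iff_free (HomSh.hasRel_of_isCoh hMc)).1 hM x
  haveI := (HomSh.hasRel_of_isCoh hMc).span_stalk x
  haveI := (HomSh.hasRel_of_isCoh hN).span_stalk x
  haveI := hrel.span_stalk x
  haveI := hNtf x
  have hS : (ShortComplex.mk (kernel.ι φ) φ (kernel.condition φ)).ShortExact :=
    { exact := ShortComplex.exact_of_f_is_kernel _ (kernelIsKernel φ) }
  haveI : Module.IsReflexive (X.presheaf.stalk x) ((kernel φ).presheaf.stalk x) :=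
    TorsionFree.isReflexive_of_exact (RefHull.stalkMapₗ (kernel.ι φ) x) (RefHull.stalkMapₗ φ x)
      (injective_stalk hS x) (exact_stalk hS x)
  exact Ref1.free_of_isReflexive_dim_two
    ((Ref1.ringKrullDim_stalk_le_topologicalKrullDim x).trans hdim) _

include f in
/-- A monomorphism of finite locally free modules is an isomorphism or its cokernel lives in codimension at most
one somewhere. -/
theorem isIso_or_exists [IsLocallyNoetherian X] {M N : X.Modules} (hM : FlatMod.IsFinLocFree M)
    (hN : FlatMod.IsFinLocFree N) (φ : M ⟶ N) [Mono φ] :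
    IsIso φ ∨ ∃ x : X, x ∈ CohB1.support (cokernel φ) ∧ ringKrullDim (X.presheaf.stalk x) ≤ 1 := by
  by_contra hcon
  push Not at hcon
  refine hcon.1 ?_
  have hX := normal k f
  have hMc := Euler.isCoh_of_isFinLocFree hM
  have hNc := Euler.isCoh_of_isFinLocFree hN
  haveI := hNc.1
  refine Ref1.isIso_of_stalk_or_depth_two hMc φ fun x => ?_
  have hS : (ShortComplex.mk φ (cokernel.π φ) (cokernel.condition φ)).ShortExact :=
    { exact := ShortComplex.exact_of_g_is_cokernel _ (cokernelIsCokernel φ) }
  by_cases hd : ringKrullDim (X.presheaf.stalk x) ≤ 1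
  · refine Or.inl ⟨injective_stalk hS x, fun w => ?_⟩
    have hsub : Subsingleton ((cokernel φ).presheaf.stalk x) := by
      by_contra h
      exact hcon.2 x h |>.not_ge hd
    exact (exact_stalk hS x w).1 (Subsingleton.elim _ _)
  · have h2 := Ref1.two_le_of_not_le_one hd
    haveI : IsDomain (X.presheaf.stalk x) := (hX x).1
    haveI := (Ref1.isFinLocFree_iff_free (HomSh.hasRel_of_isCoh hMc)).1 hM x
    haveI := (Ref1.isFinLocFree_iff_free (HomSh.hasRel_of_isCoh hNc)).1 hN x
    haveI := (HomSh.hasRel_of_isCoh hMc).span_stalk x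
    haveI := (HomSh.hasRel_of_isCoh hNc).span_stalk x
    refine Or.inr ⟨Ref1.two_le_depth_of_isReflexive (Ref1.two_le_depth_self hX h2), ?_⟩
    intro hass
    obtain ⟨v, hv⟩ := hass.2
    have hm : maximalIdeal (X.presheaf.stalk x) ≠ ⊥ := fun h => by
      have hF : IsField (X.presheaf.stalk x) := IsLocalRing.isField_iff_maximalIdeal_eq.2 h
      rw [ringKrullDim_eq_zero_of_isField hF] at hd
      exact hd zero_le_one
    refine hm (le_bot_iff.1 fun a ha => ?_)
    rw [hv] at ha
    obtain ⟨n, hn⟩ := ha
    by_contra ha0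
    rw [Submodule.mem_colon_singleton, Submodule.mem_bot, smul_eq_zero] at hn
    rcases hn with h | h
    · exact ha0 (pow_eq_zero_iff (n := n) (by rintro rfl; simp at h) |>.1 h)
    · subst h
      exact (maximalIdeal.isMaximal (X.presheaf.stalk x)).ne_top (hv.trans (by simp))

end GrothLib.SurfRef9
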